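import Cfsg.Agent.H26.BitCode
import Mathlib

/-!
Row vectors fixed by a coded matrix over the field with two elements: bounds from certificate
matrices, and the permutation argument bounding them along commuting elements of prime order.
-/

set_option autoImplicit false

namespace H97.J4Big

open H26.BitCode

variable {m : ℕ}

/-- square matrices over two elements -/
abbrev MatN (m : ℕ) : Type := Matrix (Fin m) (Fin m) (ZMod 2)

/-- the row vectors fixed by a unit -/
abbrev Fix (u : (MatN m)ˣ) : Type :=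
  {v : Fin m → ZMod 2 // Matrix.vecMul v (u : MatN m) = v}

/-- the number of fixed row vectors -/
noncomputable def fc (u : (MatN m)ˣ) : ℕ := Nat.card (Fix u)

theorem add_self_vec (v : Fin m → ZMod 2) : v + v = 0 :=
  funext fun i => CharTwo.add_self_eq_zero _

theorem fc_le {u : (MatN m)ˣ} {f : ℕ} (B P Q : MatN m)
    (e : ((u : MatN m) + 1) * B + 1 = P * Q) (hP : ∀ (i k : Fin m), f ≤ k.val → P i k = 0) :
    fc u ≤ 2 ^ f := by
  let ψ : Fix u → Fin f → ZMod 2 := fun v j =>
    if h : j.val < m then Matrix.vecMul v.1 P ⟨j.val, h⟩ else 0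
  have key : ∀ v : Fix u, v.1 = Matrix.vecMul (Matrix.vecMul v.1 P) Q := fun v => by
    rw [Matrix.vecMul_vecMul, ← e, Matrix.vecMul_add, ← Matrix.vecMul_vecMul, Matrix.vecMul_add,
      v.2, Matrix.vecMul_one, add_self_vec, Matrix.zero_vecMul, zero_add]
  have hψ : Function.Injective ψ := fun v w h => by
    have hw : Matrix.vecMul v.1 P = Matrix.vecMul w.1 P := by
      funext k
      by_cases hk : k.val < f
      · have := congrFun h ⟨k.val, hk⟩
        simpa [ψ, k.isLt] using this
      · have z : ∀ x : Fin m → ZMod 2, Matrix.vecMul x P k = 0 := fun x => by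
          show ∑ i, x i * P i k = 0
          exact Finset.sum_eq_zero fun i _ => by rw [hP i k (not_lt.1 hk), mul_zero]
        rw [z, z]
    exact Subtype.ext ((key v).trans
      ((congrArg (fun z => Matrix.vecMul z Q) hw).trans (key w).symm))
  calc fc u ≤ Nat.card (Fin f → ZMod 2) := Nat.card_le_card_of_injective ψ hψ
    _ = 2 ^ f := by simp

theorem le_fc {u : (MatN m)ˣ} {n : ℕ} (L : MatN m) (e : L * (u : MatN m) = L) (hn : n ≤ m)
    (hinj : ∀ a b : Fin n, L (Fin.castLE hn a) = L (Fin.castLE hn b) → a = b) : n ≤ fc u := by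
  let φ : Fin n → Fix u := fun r => ⟨L (Fin.castLE hn r), by
    funext k
    exact congrFun (congrFun e (Fin.castLE hn r)) k⟩
  have hφ : Function.Injective φ := fun a b h => hinj a b (congrArg Subtype.val h)
  simpa [fc] using Nat.card_le_card_of_injective φ hφ

theorem fc_conj (g u : (MatN m)ˣ) : fc (g * u * g⁻¹) = fc u := by
  have hsub : ∀ g u : (MatN m)ˣ, fc (g * u * g⁻¹) ≤ fc u := by
    intro g u
    let φ : Fix (g * u * g⁻¹) → Fix u := fun v => ⟨Matrix.vecMul v.1 (g : MatN m), by
      have e : Matrix.vecMul (Matrix.vecMul v.1 ((g * u * g⁻¹ : (MatN m)ˣ) : MatN m))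
          (g : MatN m) = Matrix.vecMul v.1 (g : MatN m) :=
        congrArg (fun w => Matrix.vecMul w (g : MatN m)) v.2
      have e2 : ((g * u * g⁻¹ : (MatN m)ˣ) : MatN m) * (g : MatN m) =
          (g : MatN m) * (u : MatN m) := by
        rw [← Units.val_mul, ← Units.val_mul, inv_mul_cancel_right]
      rw [Matrix.vecMul_vecMul, e2, ← Matrix.vecMul_vecMul] at e
      exact e⟩
    have hφ : Function.Injective φ := fun a b e => by
      have e' : Matrix.vecMul (Matrix.vecMul a.1 (g : MatN m)) ((g⁻¹ : (MatN m)ˣ) : MatN m) =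
          Matrix.vecMul (Matrix.vecMul b.1 (g : MatN m)) ((g⁻¹ : (MatN m)ˣ) : MatN m) :=
        congrArg (fun w => Matrix.vecMul w ((g⁻¹ : (MatN m)ˣ) : MatN m)) (congrArg Subtype.val e)
      rw [Matrix.vecMul_vecMul, Matrix.vecMul_vecMul, ← Units.val_mul, mul_inv_cancel,
        Units.val_one, Matrix.vecMul_one, Matrix.vecMul_one] at e'
      exact Subtype.ext e'
    exact Nat.card_le_card_of_injective φ hφ
  refine le_antisymm (hsub g u) ?_
  have := hsub g⁻¹ (g * u * g⁻¹)
  rwa [show g⁻¹ * (g * u * g⁻¹) * g⁻¹⁻¹ = u by group] at this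

/-- a unit of prime order `q` commuting with `u` fixes the fixed vectors of `u` if there are fewer
than `q` of them -/
theorem fc_le_of_commute {u v : (MatN m)ˣ} {q : ℕ} (hq : q.Prime) (hv : v ^ q = 1)
    (huv : u * v = v * u) (hlt : fc u < q) : fc u ≤ fc v := by
  classical
  have cm : (u : MatN m) * (v : MatN m) = (v : MatN m) * (u : MatN m) := by
    rw [← Units.val_mul, ← Units.val_mul, huv]
  let σf : Fix u → Fix u := fun w => ⟨Matrix.vecMul w.1 (v : MatN m), by
    rw [Matrix.vecMul_vecMul, ← cm, ← Matrix.vecMul_vecMul, w.2]⟩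
  have hinj : Function.Injective σf := fun a b e => by
    have e' : Matrix.vecMul (Matrix.vecMul a.1 (v : MatN m)) ((v⁻¹ : (MatN m)ˣ) : MatN m) =
        Matrix.vecMul (Matrix.vecMul b.1 (v : MatN m)) ((v⁻¹ : (MatN m)ˣ) : MatN m) :=
      congrArg (fun w => Matrix.vecMul w ((v⁻¹ : (MatN m)ˣ) : MatN m)) (congrArg Subtype.val e)
    rw [Matrix.vecMul_vecMul, Matrix.vecMul_vecMul, ← Units.val_mul, mul_inv_cancel,
      Units.val_one, Matrix.vecMul_one, Matrix.vecMul_one] at e'
    exact Subtype.ext e'
  let σ : Equiv.Perm (Fix u) := Equiv.ofBijective σf (Finite.injective_iff_bijective.mp hinj)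
  have hp : ∀ (k : ℕ) (w : Fix u),
      ((σ ^ k) w).1 = Matrix.vecMul w.1 ((v ^ k : (MatN m)ˣ) : MatN m) := by
    intro k
    induction k with
    | zero => intro w; rw [pow_zero, pow_zero, Units.val_one, Matrix.vecMul_one]; rfl
    | succ k ih =>
      intro w
      rw [pow_succ', Equiv.Perm.mul_apply, pow_succ, Units.val_mul, ← Matrix.vecMul_vecMul, ← ih]
      rfl
  have hσq : σ ^ q = 1 := Equiv.ext fun w => Subtype.ext (by
    rw [hp, hv, Units.val_one, Matrix.vecMul_one]; rfl)
  have hσ : σ = 1 := by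
    have := Fact.mk hq
    by_contra hne
    have ho : orderOf σ = q := orderOf_eq_prime hσq hne
    have hd := orderOf_dvd_natCard σ
    rw [ho, Nat.card_perm] at hd
    exact absurd ((Nat.Prime.dvd_factorial hq).mp hd) (Nat.not_le.mpr hlt)
  have hfix : ∀ w : Fix u, Matrix.vecMul w.1 (v : MatN m) = w.1 := fun w =>
    congrArg Subtype.val (show σ w = w by rw [hσ]; rfl)
  exact Nat.card_le_card_of_injective (fun w : Fix u => (⟨w.1, hfix w⟩ : Fix v))
    fun a b e => Subtype.ext (congrArg Subtype.val e :)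

/-- the row test behind `le_fc` -/
theorem row_inj {c : ℕ} {a b : Fin m} (h : (matC m c : MatN m) a = matC m c b) :
    rowC m c a.val = rowC m c b.val := by
  apply Nat.eq_of_testBit_eq
  intro k
  rw [rowC, rowC, Nat.testBit_mod_two_pow, Nat.testBit_mod_two_pow]
  by_cases hk : k < m
  · have := b2_inj (congrFun h ⟨k, hk⟩)
    simp only [cbit] at this
    rw [Nat.testBit_shiftRight, Nat.testBit_shiftRight, this]
  · simp [hk]

/-- a bound on the rows kills the later columns -/
theorem col_zero {c f : ℕ} {i k : Fin m} (h : rowC m c i.val < 2 ^ f) (hk : f ≤ k.val) :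
    (matC m c : MatN m) i k = 0 := by
  have hb := Nat.testBit_lt_two_pow (i := k.val)
    (h.trans_le (Nat.pow_le_pow_right (by norm_num) hk))
  rw [rowC, Nat.testBit_mod_two_pow, Nat.testBit_shiftRight] at hb
  simp only [k.isLt, decide_true, Bool.true_and] at hb
  show b2 (cbit m c i.val k.val) = 0
  rw [cbit, hb]
  rfl

theorem matC_xor (a b : ℕ) : (matC m (a ^^^ b) : MatN m) = matC m a + matC m b := by
  ext i k
  rw [Matrix.add_apply]
  show b2 (cbit m (a ^^^ b) i k) = b2 (cbit m a i k) + b2 (cbit m b i k)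
  rw [cbit, cbit, cbit, Nat.testBit_xor, b2_xor]

end H97.J4Big
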