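import Cfsg.Agent.H97.J4Big.Data
import Cfsg.Agent.H97.J4Big.Lin
import Cfsg.Agent.H96.J4Real
import Cfsg.Agent.H93.Coset

/-!
Elements of order 23, 31 and 43 in the 112-dimensional image of the presented fourth Janko group:
normalising elements, and an element of order 31 commutes with none of order 43.
-/

set_option autoImplicit false
set_option maxRecDepth 100000

namespace H97.J4Big

open H26.BitCode H54.J4.Rep Data
open Cfsg.Spor.J4 (Gen)
open H93.Coset (force force_eq)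

/-- generator by number -/
def gen : ℕ → Gen
  | 0 => Gen.x
  | 1 => Gen.y
  | _ => Gen.t

/-- code of a generator by number -/
noncomputable def gc (a : ℕ) : ℕ :=
  Nat.rec (motive := fun _ => ℕ) cX
    (fun n _ => Nat.rec (motive := fun _ => ℕ) cY (fun _ _ => cT) n) a

/-- product of a list of codes -/
noncomputable def prodC (l : List ℕ) : ℕ → ℕ :=
  List.rec (fun acc => acc) (fun a _ ih acc => force (mulC acc a) ih) l

theorem is_prodC {α : Type*} (f : α → Matˣ) (c : α → ℕ) (h : ∀ a, Is (f a) (c a)) :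
    ∀ (l : List α) (u : Matˣ) (n : ℕ), Is u n → Is (u * (l.map f).prod) (prodC (l.map c) n)
  | [], u, n, hu => by
    rw [List.map_nil, List.prod_nil, mul_one]
    exact hu
  | a :: l, u, n, hu => by
    rw [List.map_cons, List.map_cons, List.prod_cons, ← mul_assoc,
      show prodC (c a :: l.map c) n = force (mulC n (c a)) (prodC (l.map c)) from rfl, force_eq]
    exact is_prodC f c h l _ _ (hu.mul (h a))

/-- checker for an upper bound `2 ^ f` of the fixed vectors -/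
noncomputable def upB (f c B P Q : ℕ) : Bool :=
  Nat.beq (mulC (c ^^^ cI) B ^^^ cI) (mulC P Q) &&
    (List.range 112).all fun i => Nat.blt (rowC 112 P i) (2 ^ f)

theorem fc_le_of {u : Matˣ} {f c B P Q : ℕ} (hu : Is u c) (h : upB f c B P Q = true) :
    fc u ≤ 2 ^ f := by
  obtain ⟨h1, h2⟩ := Bool.and_eq_true_iff.mp h
  refine fc_le (matC 112 B) (matC 112 P) (matC 112 Q) ?_ fun i k hk =>
    col_zero (Nat.le_of_ble_eq_true (List.all_eq_true.mp h2 i.val (List.mem_range.mpr i.isLt))) hk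
  rw [hu, ← matC_mulC P Q, ← Nat.eq_of_beq_eq_true h1, matC_xor, matC_mulC, matC_xor, matC_cI]

/-- checker for two fixed vectors -/
noncomputable def loB (c L : ℕ) : Bool :=
  Nat.beq (mulC L c) L && !Nat.beq (rowC 112 L 0) (rowC 112 L 1)

theorem two_le_fc {u : Matˣ} {c L : ℕ} (hu : Is u c) (h : loB c L = true) : 2 ≤ fc u := by
  obtain ⟨h1, h2⟩ := Bool.and_eq_true_iff.mp h
  refine le_fc (matC 112 L) (by rw [hu, ← matC_mulC, Nat.eq_of_beq_eq_true h1]) (by norm_num)
    fun a b e => ?_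
  have hr := row_inj e
  simp only [Fin.val_castLE] at hr
  have hne : rowC 112 L 0 ≠ rowC 112 L 1 := fun x => by
    rw [x, Nat.beq_refl] at h2
    exact Bool.false_ne_true h2
  rcases a with ⟨_ | _ | a, ha⟩ <;> rcases b with ⟨_ | _ | b, hb⟩ <;> first
    | rfl
    | omega
    | exact absurd hr hne
    | exact absurd hr.symm hne

/-- element of a word -/
noncomputable def el (w : List ℕ) : Cfsg.Spor.J4 :=
  (w.map fun a => (PresentedGroup.of (gen a) : Cfsg.Spor.J4)).prod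

/-- code of a word -/
noncomputable def cd (w : List ℕ) : ℕ := prodC (w.map gc) cI

/-- code of a power -/
noncomputable def cp (c k : ℕ) : ℕ := prodC (List.replicate k c) cI

theorem is_gen : ∀ a, Is (H96.J4Real.rho (PresentedGroup.of (gen a))) (gc a)
  | 0 => by rw [H96.J4Real.rho, PresentedGroup.toGroup.of]; exact isX
  | 1 => by rw [H96.J4Real.rho, PresentedGroup.toGroup.of]; exact isY
  | _ + 2 => by rw [H96.J4Real.rho, PresentedGroup.toGroup.of]; exact isT

theorem is_one' : Is 1 cI := by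
  show ((1 : Matˣ) : Mat) = _
  rw [Units.val_one, matC_cI]

theorem is_el {w : List ℕ} {c : ℕ} (h : Nat.beq (cd w) c = true) : Is (H96.J4Real.rho (el w)) c := by
  rw [← Nat.eq_of_beq_eq_true h, el, map_list_prod, List.map_map, ← one_mul (List.prod _)]
  exact is_prodC _ gc is_gen w 1 cI is_one'

theorem is_cp {u : Matˣ} {c : ℕ} (hu : Is u c) (k : ℕ) : Is (u ^ k) (cp c k) := by
  have h := is_prodC (fun _ : Fin k => u) (fun _ => c) (fun _ => hu) (List.finRange k) 1 cI is_one'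
  simpa [cp, List.map_const'] using h

theorem unit_eq {u v : Matˣ} {a b : ℕ} (hu : Is u a) (hv : Is v b) (h : Nat.beq a b = true) :
    u = v := Units.ext (by rw [hu, hv, Nat.eq_of_beq_eq_true h])

theorem pow_one_of {u : Matˣ} {c r : ℕ} (hu : Is u c) (h : Nat.beq (cp c r) cI = true) :
    u ^ r = 1 := unit_eq (is_cp hu r) is_one' h

theorem ne_one_of {u : Matˣ} {c : ℕ} (hu : Is u c)
    (h : (Nat.blt c (2 ^ (112 * 112)) && !Nat.beq c cI) = true) : u ≠ 1 := fun e => by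
  obtain ⟨h1, h2⟩ := Bool.and_eq_true_iff.mp h
  rw [e] at hu
  have : matC 112 c = matC 112 cI := hu.symm.trans is_one'
  have hc := matC_inj (by norm_num) (Nat.le_of_ble_eq_true h1)
    (by decide +kernel : cI < 2 ^ (112 * 112)) this
  rw [hc, Nat.beq_refl] at h2
  exact Bool.false_ne_true h2

theorem comm_pow_of {a g : Matˣ} {ca cg k : ℕ} (ha : Is a ca) (hg : Is g cg)
    (h : Nat.beq (mulC cg ca) (mulC (cp ca k) cg) = true) : g * a * g⁻¹ = a ^ k := by
  rw [unit_eq (hg.mul ha) ((is_cp ha k).mul hg) h, mul_inv_cancel_right]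

/-- element of order 23 -/
noncomputable def u23 : Cfsg.Spor.J4 := el wA23
/-- element inducing the squaring map on `u23` -/
noncomputable def g23 : Cfsg.Spor.J4 := el wG23
/-- a real element of order 23 -/
noncomputable def v23 : Cfsg.Spor.J4 := el wI23
/-- element of order 31 -/
noncomputable def u31 : Cfsg.Spor.J4 := el wA31
/-- element of order 43 -/
noncomputable def u43 : Cfsg.Spor.J4 := el wA43
/-- the involution x -/
noncomputable def sx : Cfsg.Spor.J4 := el [0]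

theorem cd_ok : Nat.beq (cd wA23) cA23 = true ∧ Nat.beq (cd wG23) cG23 = true ∧
    Nat.beq (cd wI23) cI23 = true ∧ Nat.beq (cd wA31) cA31 = true ∧
    Nat.beq (cd wA43) cA43 = true ∧ Nat.beq (cd [0]) cX = true := by
  refine ⟨?_, ?_, ?_, ?_, ?_, ?_⟩ <;> decide +kernel

theorem is_u23 : Is (H96.J4Real.rho u23) cA23 := is_el cd_ok.1
theorem is_g23 : Is (H96.J4Real.rho g23) cG23 := is_el cd_ok.2.1
theorem is_v23 : Is (H96.J4Real.rho v23) cI23 := is_el cd_ok.2.2.1
theorem is_u31 : Is (H96.J4Real.rho u31) cA31 := is_el cd_ok.2.2.2.1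
theorem is_u43 : Is (H96.J4Real.rho u43) cA43 := is_el cd_ok.2.2.2.2.1
theorem is_sx : Is (H96.J4Real.rho sx) cX := is_el cd_ok.2.2.2.2.2

theorem u23_pow : H96.J4Real.rho u23 ^ 23 = 1 := pow_one_of is_u23 (by decide +kernel)
theorem v23_pow : H96.J4Real.rho v23 ^ 23 = 1 := pow_one_of is_v23 (by decide +kernel)
theorem u31_pow : H96.J4Real.rho u31 ^ 31 = 1 := pow_one_of is_u31 (by decide +kernel)
theorem u43_pow : H96.J4Real.rho u43 ^ 43 = 1 := pow_one_of is_u43 (by decide +kernel)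

theorem u23_ne : H96.J4Real.rho u23 ≠ 1 := ne_one_of is_u23 (by decide +kernel)
theorem v23_ne : H96.J4Real.rho v23 ≠ 1 := ne_one_of is_v23 (by decide +kernel)
theorem u31_ne : H96.J4Real.rho u31 ≠ 1 := ne_one_of is_u31 (by decide +kernel)
theorem u43_ne : H96.J4Real.rho u43 ≠ 1 := ne_one_of is_u43 (by decide +kernel)

theorem g23_conj : H96.J4Real.rho (g23 * u23 * g23⁻¹) = H96.J4Real.rho (u23 ^ 2) := by
  rw [map_mul, map_mul, map_inv, map_pow]
  exact comm_pow_of is_u23 is_g23 (by decide +kernel)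

theorem v23_conj : H96.J4Real.rho (sx * v23 * sx⁻¹) = H96.J4Real.rho v23⁻¹ := by
  rw [map_mul, map_mul, map_inv, map_inv,
    comm_pow_of (k := 22) is_v23 is_sx (by decide +kernel)]
  exact eq_inv_of_mul_eq_one_left (by rw [← pow_succ]; exact v23_pow)

theorem u31_conj : H96.J4Real.rho (sx * u31 * sx⁻¹) = H96.J4Real.rho u31⁻¹ := by
  rw [map_mul, map_mul, map_inv, map_inv,
    comm_pow_of (k := 30) is_u31 is_sx (by decide +kernel)]
  exact eq_inv_of_mul_eq_one_left (by rw [← pow_succ]; exact u31_pow)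

/-- element of order 29 -/
noncomputable def u29 : Cfsg.Spor.J4 := el wA29

theorem is_u29 : Is (H96.J4Real.rho u29) cA29 := is_el (by decide +kernel)
theorem u29_pow : H96.J4Real.rho u29 ^ 29 = 1 := pow_one_of is_u29 (by decide +kernel)
theorem u29_ne : H96.J4Real.rho u29 ≠ 1 := ne_one_of is_u29 (by decide +kernel)

theorem fc_u23 : 2 ≤ fc (H96.J4Real.rho u23) ∧ fc (H96.J4Real.rho u23) ≤ 4 :=
  ⟨two_le_fc (L := lA23) is_u23 (by decide +kernel),
    fc_le_of (f := 2) (B := bA23) (P := pA23) (Q := qA23) is_u23 (by decide +kernel)⟩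

theorem fc_u31 : 2 ≤ fc (H96.J4Real.rho u31) ∧ fc (H96.J4Real.rho u31) ≤ 4 :=
  ⟨two_le_fc (L := lA31) is_u31 (by decide +kernel),
    fc_le_of (f := 2) (B := bA31) (P := pA31) (Q := qA31) is_u31 (by decide +kernel)⟩

theorem fc_u29 : fc (H96.J4Real.rho u29) ≤ 1 :=
  fc_le_of (f := 0) (B := bA29) (P := pA29) (Q := qA29) is_u29 (by decide +kernel)

theorem fc_u43 : fc (H96.J4Real.rho u43) ≤ 1 :=
  fc_le_of (f := 0) (B := bA43) (P := pA43) (Q := qA43) is_u43 (by decide +kernel)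

theorem apart_of {u v : Cfsg.Spor.J4} {q : ℕ} (hq : q.Prime) (h5 : 5 ≤ q)
    (hu : 2 ≤ fc (H96.J4Real.rho u) ∧ fc (H96.J4Real.rho u) ≤ 4)
    (hv : H96.J4Real.rho v ^ q = 1) (hf : fc (H96.J4Real.rho v) ≤ 1) (h : Cfsg.Spor.J4) :
    ¬ Commute (H96.J4Real.rho u) (H96.J4Real.rho (h * v * h⁻¹)) := fun hc => by
  have hw : H96.J4Real.rho (h * v * h⁻¹) ^ q = 1 := by
    rw [map_mul, map_mul, map_inv, conj_pow, hv, mul_one, mul_inv_cancel]
  have h2 := fc_le_of_commute hq hw hc.eq (by omega)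
  rw [map_mul, map_mul, map_inv, fc_conj] at h2
  omega

theorem apart23_29 (h : Cfsg.Spor.J4) :
    ¬ Commute (H96.J4Real.rho u23) (H96.J4Real.rho (h * u29 * h⁻¹)) :=
  apart_of (by norm_num) (by norm_num) fc_u23 u29_pow fc_u29 h

theorem apart23_43 (h : Cfsg.Spor.J4) :
    ¬ Commute (H96.J4Real.rho u23) (H96.J4Real.rho (h * u43 * h⁻¹)) :=
  apart_of (by norm_num) (by norm_num) fc_u23 u43_pow fc_u43 h

theorem apart31_29 (h : Cfsg.Spor.J4) :
    ¬ Commute (H96.J4Real.rho u31) (H96.J4Real.rho (h * u29 * h⁻¹)) :=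
  apart_of (by norm_num) (by norm_num) fc_u31 u29_pow fc_u29 h

theorem apart31_43 (h : Cfsg.Spor.J4) :
    ¬ Commute (H96.J4Real.rho u31) (H96.J4Real.rho (h * u43 * h⁻¹)) :=
  apart_of (by norm_num) (by norm_num) fc_u31 u43_pow fc_u43 h

theorem norm23 : ∃ u g : Cfsg.Spor.J4, H96.J4Real.rho u ≠ 1 ∧ H96.J4Real.rho u ^ 23 = 1 ∧
    H96.J4Real.rho (g * u * g⁻¹) = H96.J4Real.rho (u ^ 2) :=
  ⟨u23, g23, u23_ne, u23_pow, g23_conj⟩

theorem inv31 : ∃ u s : Cfsg.Spor.J4, H96.J4Real.rho u ≠ 1 ∧ H96.J4Real.rho u ^ 31 = 1 ∧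
    H96.J4Real.rho (s * u * s⁻¹) = H96.J4Real.rho u⁻¹ :=
  ⟨u31, sx, u31_ne, u31_pow, u31_conj⟩

theorem exists_apart (a b : ℕ) (ha : a = 23 ∨ a = 31) (hb : b = 29 ∨ b = 43) :
    ∃ u v : Cfsg.Spor.J4, H96.J4Real.rho u ≠ 1 ∧ H96.J4Real.rho u ^ a = 1 ∧
      H96.J4Real.rho v ≠ 1 ∧ H96.J4Real.rho v ^ b = 1 ∧
      ∀ h, ¬ Commute (H96.J4Real.rho u) (H96.J4Real.rho (h * v * h⁻¹)) := by
  rcases ha with rfl | rfl <;> rcases hb with rfl | rfl
  · exact ⟨u23, u29, u23_ne, u23_pow, u29_ne, u29_pow, apart23_29⟩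
  · exact ⟨u23, u43, u23_ne, u23_pow, u43_ne, u43_pow, apart23_43⟩
  · exact ⟨u31, u29, u31_ne, u31_pow, u29_ne, u29_pow, apart31_29⟩
  · exact ⟨u31, u43, u31_ne, u31_pow, u43_ne, u43_pow, apart31_43⟩

end H97.J4Big
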